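import Mathlib
import Cfsg.Agent.CpQuot.Quo
import Cfsg.Prelude.Def_CaseTheorems
import Cfsg.Agent.CTFrame.Hom
import Cfsg.Agent.ChevalleyStructure.Elts
import Cfsg.Agent.ChevalleyStructure.SL2All
import Cfsg.Agent.ChevalleyStructure.SL2Hom
import Cfsg.Agent.S1025
import Cfsg.Agent.S1076
import Cfsg.Agent.SignalizersComponents.SLQuasisimple
import Cfsg.Agent.H953.Index
import Cfsg.Agent.FastGrp
import Cfsg.Agent.Prune
set_option linter.all false
prune_inst 0x3fffffffffffffffffffffffffffbeffbdffffffff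
open scoped Cfsg.Agent.FastGrp

-- part: H122/S5/Comm
section
/-!
# S2274, X2: commuting products of quasisimple subgroups of index prime to `p` (helper122)

* `PP p c n` : every power of `p` dividing `c` divides `n`;
* `Fac p c L` : `L` is quasisimple, `p` does not divide `|Z(L)|`, `PP p c |L|`;
* `edat_of` : pairwise commuting subgroups `Fac p c L_i` with `|S|` dividing `c ^ k * m`, `p ∤ m`, give the data `EDat`.
-/

set_option autoImplicit false
set_option linter.unusedSectionVars false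

namespace Cfsg.Agent.H122.S5

open Subgroup Cfsg

/-! ### Numbers -/

/-- every power of `p` dividing `c` divides `n` -/
def PP (p c n : ℕ) : Prop := ∀ k, p ^ k ∣ c → p ^ k ∣ n

theorem PP.mul {p c d m n : ℕ} (hp : p.Prime) (hc : c ≠ 0) (hd : d ≠ 0) (h1 : PP p c m) (h2 : PP p d n) :
    PP p (c * d) (m * n) := by
  intro k hk
  have h3 : k ≤ (c * d).factorization p := (hp.pow_dvd_iff_le_factorization (mul_ne_zero hc hd)).1 hk
  rw [Nat.factorization_mul hc hd, Finsupp.add_apply] at h3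
  refine (pow_dvd_pow p h3).trans ?_
  rw [pow_add]
  exact mul_dvd_mul (h1 _ (Nat.ordProj_dvd c p)) (h2 _ (Nat.ordProj_dvd d p))

theorem PP.of_mul {p c m n : ℕ} (hp : p.Prime) (hm : ¬ p ∣ m) (h : PP p c (m * n)) : PP p c n := fun k hk =>
  (((hp.coprime_iff_not_dvd.2 hm).pow_left k)).dvd_of_dvd_mul_left (h k hk)

theorem PP.of_dvd {p c n : ℕ} (h : c ∣ n) : PP p c n := fun _ hk => hk.trans h

theorem PP.trans {p a b c : ℕ} (h : PP p a b) (h' : PP p b c) : PP p a c := fun k hk => h' k (h k hk)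

/-- cancel a factor prime to `p` -/
theorem PP.cancel {p c m n : ℕ} (hp : p.Prime) (hm : ¬ p ∣ m) (h : PP p c n) : PP p (c * m) n := fun k hk =>
  h k (((hp.coprime_iff_not_dvd.2 hm).pow_left k).dvd_of_dvd_mul_right hk)

theorem PP.pow {p c n : ℕ} (hp : p.Prime) (hc : c ≠ 0) (h : PP p c n) : ∀ k : ℕ, PP p (c ^ k) (n ^ k)
  | 0 => fun _ hk => hk
  | k + 1 => by
    rw [pow_succ, pow_succ]
    exact (PP.pow hp hc h k).mul hp (pow_ne_zero _ hc) hc h

section

variable {S : Type*} [Group S] [Finite S] {p : ℕ}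

/-- the index is prime to `p` -/
theorem index_of_pp (hp : p.Prime) {M : Subgroup S} (h : PP p (Nat.card S) (Nat.card M)) : ¬ p ∣ M.index := by
  intro hd
  have h0 : Nat.card S ≠ 0 := Nat.card_pos.ne'
  have h1 : p ^ (Nat.card S).factorization p ∣ Nat.card M := h _ (Nat.ordProj_dvd _ _)
  have h2 : p ^ ((Nat.card S).factorization p + 1) ∣ Nat.card S := by
    rw [pow_succ, ← M.card_mul_index]
    exact mul_dvd_mul (by rw [M.card_mul_index]; exact h1) hd
  have h3 := (hp.pow_dvd_iff_le_factorization h0).1 h2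
  omega

/-- the product of two commuting subgroups -/
theorem pp_sup (hp : p.Prime) {A B : Subgroup S} (hc : ∀ a ∈ A, ∀ b ∈ B, a * b = b * a)
    (hz : ¬ p ∣ Nat.card ↥(A ⊓ B)) : PP p (Nat.card A * Nat.card B) (Nat.card ↥(A ⊔ B)) := by
  let f : ↥A × ↥B →* S := MonoidHom.noncommCoprod A.subtype B.subtype fun a b => hc a a.2 b b.2
  have hf : f.range = A ⊔ B := by
    have h1 : f.range = A.subtype.range ⊔ B.subtype.range := MonoidHom.noncommCoprod_range _ _ _
    rw [h1]
    exact congrArg₂ (· ⊔ ·) (Subgroup.range_subtype A) (Subgroup.range_subtype B)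
  have hk : ¬ p ∣ Nat.card f.ker := by
    intro hd
    apply hz
    let g : ↥f.ker →* ↥(A ⊓ B) :=
      { toFun := fun x => ⟨((x : ↥A × ↥B).1 : S), (x : ↥A × ↥B).1.2, by
          have h1 : (((x : ↥A × ↥B).1 : S)) * ((x : ↥A × ↥B).2 : S) = 1 := x.2
          rw [eq_inv_of_mul_eq_one_left h1]
          exact B.inv_mem (x : ↥A × ↥B).2.2⟩
        map_one' := rfl
        map_mul' := fun _ _ => rfl }
    have hg : Function.Injective g := by
      intro x y hxy
      have h1 : (((x : ↥A × ↥B).1 : S)) * ((x : ↥A × ↥B).2 : S) = 1 := x.2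
      have h2 : (((y : ↥A × ↥B).1 : S)) * ((y : ↥A × ↥B).2 : S) = 1 := y.2
      have h3 : ((x : ↥A × ↥B).1 : S) = ((y : ↥A × ↥B).1 : S) :=
        congrArg (fun u : ↥(A ⊓ B) => (u : S)) hxy
      have h4 : ((x : ↥A × ↥B).2 : S) = ((y : ↥A × ↥B).2 : S) := by
        rw [eq_inv_of_mul_eq_one_right h1, eq_inv_of_mul_eq_one_right h2, h3]
      exact Subtype.ext (Prod.ext (Subtype.ext h3) (Subtype.ext h4))
    exact hd.trans (card_dvd_of_injective g hg)
  have h1 := f.ker.card_mul_index
  rw [index_ker, hf, Nat.card_prod] at h1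
  refine PP.of_mul hp hk (PP.of_dvd ?_)
  rw [h1]

/-- a factor of the product -/
structure Fac (p c : ℕ) (L : Subgroup S) : Prop where
  qs : IsQuasisimple ↥L
  pp : PP p c (Nat.card L)
  z : ¬ p ∣ Nat.card ↥(center ↥L)

theorem Fac.inf {c : ℕ} {L B : Subgroup S} (h : Fac p c L) (hc : ∀ a ∈ L, ∀ b ∈ B, a * b = b * a) :
    ¬ p ∣ Nat.card ↥(L ⊓ B) := by
  intro hd
  apply h.z
  let g : ↥(L ⊓ B) →* ↥(center ↥L) :=
    { toFun := fun x => ⟨⟨x, x.2.1⟩, mem_center_iff.2 fun y => Subtype.ext (hc y y.2 x x.2.2)⟩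
      map_one' := rfl
      map_mul' := fun _ _ => rfl }
  have hg : Function.Injective g := fun x y hxy => Subtype.ext (congrArg
    (fun u : ↥(center ↥L) => (((u : ↥L)) : S)) hxy)
  exact hd.trans (card_dvd_of_injective g hg)

/-- the product of a list of pairwise commuting factors -/
theorem pp_list (hp : p.Prime) {c : ℕ} (hc0 : c ≠ 0) : ∀ Ls : List (Subgroup S), (∀ L ∈ Ls, Fac p c L) →
    Ls.Pairwise (fun A B => ∀ a ∈ A, ∀ b ∈ B, a * b = b * a) →
    PP p (c ^ Ls.length) (Nat.card ↥(Ls.foldr (· ⊔ ·) ⊥))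
  | [], _, _ => by
    rw [List.length_nil, pow_zero]
    exact PP.of_dvd (one_dvd _)
  | L :: Ls, hF, hc => by
    rw [List.pairwise_cons] at hc
    have h1 := pp_list hp hc0 Ls (fun L' h => hF L' (List.mem_cons_of_mem _ h)) hc.2
    have hL := hF L List.mem_cons_self
    have h2 : ∀ a ∈ L, ∀ b ∈ (Ls.foldr (· ⊔ ·) ⊥ : Subgroup S), a * b = b * a := by
      have h3 : (Ls.foldr (· ⊔ ·) ⊥ : Subgroup S) ≤ centralizer (L : Set S) := by
        have h4 : ∀ Ms : List (Subgroup S), (∀ M ∈ Ms, M ≤ centralizer (L : Set S)) →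
            (Ms.foldr (· ⊔ ·) ⊥ : Subgroup S) ≤ centralizer (L : Set S) := by
          intro Ms
          induction Ms with
          | nil => intro _; exact bot_le
          | cons M Ms ih =>
            intro h
            exact sup_le (h M List.mem_cons_self) (ih fun M' hM' => h M' (List.mem_cons_of_mem _ hM'))
        refine h4 Ls fun M hM b hb => ?_
        rw [mem_centralizer_iff]
        intro a ha
        exact hc.1 M hM a ha b hb
      intro a ha b hb
      exact (mem_centralizer_iff.1 (h3 hb)) a ha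
    have h3 := pp_sup hp h2 (hL.inf h2)
    rw [List.length_cons, pow_succ']
    exact (PP.mul hp hc0 (pow_ne_zero _ hc0) hL.pp h1).trans h3

/-- The data for the engine of helper132: a subgroup `M` of index prime to `p` normalising a quasisimple subgroup `L`. -/
def EDat (p : ℕ) (S : Type*) [Group S] : Prop :=
  ∃ M L : Subgroup S, ¬ p ∣ M.index ∧ M ≤ normalizer (L : Set S) ∧ IsQuasisimple ↥L ∧
    p ∣ Nat.card (↥L ⧸ center ↥L) ∧ Nat.card (↥L ⧸ center ↥L) < Nat.card S

/-- `p` divides `|L / Z(L)|` -/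
theorem Fac.dvd (hp : p.Prime) {c : ℕ} {L : Subgroup S} (h : Fac p c L) (hpc : p ∣ c) :
    p ∣ Nat.card (↥L ⧸ center ↥L) := by
  have h1 : p ∣ Nat.card L := by
    have := h.pp 1 (by rwa [pow_one])
    rwa [pow_one] at this
  have h2 := (center ↥L).card_mul_index
  rw [← h2, hp.dvd_mul] at h1
  exact h1.resolve_left h.z

/-- `|L / Z(L)| < |S|` when `S` has trivial centre and `L` commutes with `B ≠ 1` -/
theorem card_lt {L B : Subgroup S} (hcen : center S = ⊥) (hB : B ≠ ⊥) (hc : ∀ a ∈ L, ∀ b ∈ B, a * b = b * a) :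
    Nat.card (↥L ⧸ center ↥L) < Nat.card S := by
  have h1 : Nat.card (↥L ⧸ center ↥L) ≤ Nat.card L := Nat.card_le_card_of_surjective _ (QuotientGroup.mk_surjective)
  refine lt_of_le_of_lt h1 (lt_of_le_of_ne (Subgroup.card_le_card_group L) fun h => hB ?_)
  have h2 : L = ⊤ := (Subgroup.card_eq_iff_eq_top L).1 h
  rw [eq_bot_iff, ← hcen]
  intro b hb
  rw [mem_center_iff]
  intro g
  exact hc g (by rw [h2]; exact mem_top g) b hb

/-- **Commuting factors.** -/
theorem edat_of (hp : p.Prime) (hcen : center S = ⊥) {c m : ℕ} (hc0 : c ≠ 0) {A B : Subgroup S}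
    {Ls : List (Subgroup S)} (hF : ∀ L ∈ A :: B :: Ls, Fac p c L)
    (hc : (A :: B :: Ls).Pairwise (fun A B => ∀ a ∈ A, ∀ b ∈ B, a * b = b * a)) (hpc : p ∣ c)
    (hS : Nat.card S ∣ c ^ (Ls.length + 2) * m) (hm : ¬ p ∣ m) : EDat p S := by
  have h1 := pp_list hp hc0 (A :: B :: Ls) hF hc
  have hA := hF A List.mem_cons_self
  have hB := hF B (List.mem_cons_of_mem _ List.mem_cons_self)
  have hcA : ∀ B' ∈ B :: Ls, ∀ a ∈ A, ∀ b ∈ B', a * b = b * a := (List.pairwise_cons.1 hc).1
  have hBne : B ≠ ⊥ := by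
    rintro rfl
    have h2 := hB.dvd hp hpc
    have h3 : Nat.card (↥(⊥ : Subgroup S) ⧸ center ↥(⊥ : Subgroup S)) = 1 := Nat.card_unique
    rw [h3] at h2
    exact hp.one_lt.ne' (Nat.dvd_one.1 h2)
  refine ⟨(A :: B :: Ls).foldr (· ⊔ ·) ⊥, A, ?_, ?_, hA.qs, hA.dvd hp hpc,
    card_lt hcen hBne (hcA B List.mem_cons_self)⟩
  · refine index_of_pp hp (PP.trans (PP.trans (PP.of_dvd hS) ?_) h1)
    rw [List.length_cons, List.length_cons]
    exact PP.cancel hp hm (PP.of_dvd dvd_rfl)
  · have h2 : ∀ Ms : List (Subgroup S), (∀ M ∈ Ms, M ≤ normalizer (A : Set S)) →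
        (Ms.foldr (· ⊔ ·) ⊥ : Subgroup S) ≤ normalizer (A : Set S) := by
      intro Ms
      induction Ms with
      | nil => intro _; exact bot_le
      | cons M Ms ih =>
        intro h
        exact sup_le (h M List.mem_cons_self) (ih fun M' hM' => h M' (List.mem_cons_of_mem _ hM'))
    refine h2 _ fun M hM => ?_
    rcases List.mem_cons.1 hM with rfl | hM
    · exact le_normalizer
    · refine le_trans ?_ (centralizer_le_normalizer (A : Set S))
      intro b hb
      rw [mem_centralizer_iff]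
      intro a ha
      exact hcA M hM a ha b hb

/-- the image of a quasisimple group -/
theorem fac_range {K : Type*} [Group K] [Finite K] (hp : p.Prime) (hK : IsQuasisimple K)
    (hz : ¬ p ∣ Nat.card ↥(center K)) {c : ℕ} (hc : c ∣ Nat.card K) (π : K →* S) (hπ : ∃ x, π x ≠ 1) :
    Fac p c π.range := by
  have hnt : Nontrivial ↥π.range := by
    obtain ⟨x, hx⟩ := hπ
    exact ⟨⟨π x, x, rfl⟩, 1, fun h => hx (congrArg Subtype.val h)⟩
  have hs := π.rangeRestrict_surjective
  have h1 := Cfsg.Agent.CpQuot.Quo.card_ker_mul hK π.rangeRestrict hs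
  have h2 : ¬ p ∣ Nat.card π.rangeRestrict.ker := fun h => hz (h1 ▸ h.mul_right _)
  refine ⟨Cfsg.Agent.CpQuot.Quo.quasisimple hK π.rangeRestrict hs, ?_, fun h => hz (h1 ▸ h.mul_left _)⟩
  refine PP.of_mul hp h2 (PP.of_dvd ?_)
  have h3 := π.rangeRestrict.ker.card_mul_index
  rw [index_ker, MonoidHom.range_eq_top.2 hs, Subgroup.card_top] at h3
  rw [h3]
  exact hc

end

end Cfsg.Agent.H122.S5
end

-- part: H122/S5/Sub
section
/-!
# S2274, X2: subsystem subgroups of type `A₁` and `Aₙ` of the Chevalley groups (helper122)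

* `sub hD F rs` : the subgroup of `D.group F` generated by the root elements of the roots in the list `rs`;
* `comm_of` : commuting subsystems;
* `fac_one`, `fac_an` : the factors of types `A₁`, `Aₙ`.
-/

set_option autoImplicit false
set_option linter.unusedSectionVars false

namespace Cfsg.Agent.H122.S5

open Subgroup Cfsg Cfsg.Lie Cfsg.Agent.ChevalleyStructure.Elts
open Cfsg.Agent.ChevalleyStructure
open scoped commutatorElement

universe u

section

variable {D : ChevalleyDatum} (hD : InList D) (F : Type u) [Field F]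

/-- root elements of the group -/
def xe (r : ℕ) (t : F) : ↥(D.group F) := ⟨xG hD r t, xG_mem_group hD r t⟩

/-- the subgroup generated by the root elements of a list of roots -/
def sub (rs : List ℕ) : Subgroup ↥(D.group F) := Subgroup.closure {g | ∃ r ∈ rs, ∃ t : F, g = xe hD F r t}

/-- the check of commuting root groups -/
def comB (D : ChevalleyDatum) (rs ss : List ℕ) : Bool := rs.all fun r => ss.all fun s =>
  decide (r < D.nroots) && (decide (s < D.nroots) && ((!(Nat.beq s r)) && ((!(Nat.beq s (D.neg r))) &&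
    (D.commTerms r s).isEmpty)))

theorem commute_x {r s : ℕ} (hr : r < D.nroots) (hs : s < D.nroots) (h1 : s ≠ r) (h2 : s ≠ D.neg r)
    (h3 : D.commTerms r s = []) (t u : F) : xe hD F r t * xe hD F s u = xe hD F s u * xe hD F r t := by
  apply Subtype.ext
  apply Units.ext
  have key := S1025.result (F := F) D hD _ _ hr hs h1 h2 t u
  rw [ChevalleyDatum.commWord, h3] at key
  change D.x F r t * D.x F s u = D.x F s u * D.x F r t
  rw [key]
  simp [ChevalleyDatum.wordMat]

theorem comm_of {rs ss : List ℕ} (h : comB D rs ss = true) :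
    ∀ a ∈ sub hD F rs, ∀ b ∈ sub hD F ss, a * b = b * a := by
  have key : ∀ x ∈ {g | ∃ r ∈ rs, ∃ t : F, g = xe hD F r t}, ∀ y ∈ {g | ∃ r ∈ ss, ∃ t : F, g = xe hD F r t},
      x * y = y * x := by
    rintro _ ⟨r, hr, t, rfl⟩ _ ⟨s, hs, u, rfl⟩
    unfold comB at h
    rw [List.all_eq_true] at h
    have h1 := h r hr
    rw [List.all_eq_true] at h1
    have h2 := h1 s hs
    simp only [Bool.and_eq_true, decide_eq_true_eq, Bool.not_eq_true', List.isEmpty_iff] at h2
    obtain ⟨a1, a2, a3, a4, a5⟩ := h2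
    have hb : ∀ {a b : ℕ}, Nat.beq a b = false → a ≠ b := by
      intro a b h h'
      rw [h', Nat.beq_refl] at h
      exact absurd h (by decide)
    exact commute_x hD F a1 a2 (hb a3) (hb a4) a5 t u
  have h1 : sub hD F rs ≤ centralizer {g | ∃ r ∈ ss, ∃ t : F, g = xe hD F r t} := by
    refine (closure_le _).2 fun x hx => ?_
    rw [SetLike.mem_coe, mem_centralizer_iff]
    intro y hy
    exact (key x hx y hy).symm
  have h2 : sub hD F ss ≤ centralizer (sub hD F rs : Set ↥(D.group F)) := by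
    refine (closure_le _).2 fun y hy => ?_
    rw [SetLike.mem_coe, mem_centralizer_iff]
    intro a ha
    exact ((mem_centralizer_iff.1 (h1 ha)) y hy).symm
  intro a ha b hb
  exact (mem_centralizer_iff.1 (h2 hb)) a ha

/-- the pairwise check -/
def pairB (D : ChevalleyDatum) : List (List ℕ) → Bool
  | [] => true
  | a :: l => (l.all fun b => comB D a b) && pairB D l

theorem pairwise_of : ∀ {l : List (List ℕ)}, pairB D l = true →
    (l.map (sub hD F)).Pairwise (fun A B => ∀ a ∈ A, ∀ b ∈ B, a * b = b * a)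
  | [], _ => List.Pairwise.nil
  | a :: l, h => by
    unfold pairB at h
    rw [Bool.and_eq_true, List.all_eq_true] at h
    rw [List.map_cons, List.pairwise_cons]
    refine ⟨fun B hB => ?_, pairwise_of h.2⟩
    obtain ⟨b, hb, rfl⟩ := List.mem_map.1 hB
    exact comm_of hD F (h.1 b hb)

theorem xe_eq_one {r : ℕ} (hr : r < D.nroots) {t : F} (h : xe hD F r t = 1) : t = 0 :=
  (xG_eq_one_iff hD hr t).1 (congrArg Subtype.val h)

/-! ### the centre of `SLₙ` -/

theorem not_dvd_center {n p : ℕ} (hp : p.Prime) [Fintype F] (hn : ¬ p ∣ n) :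
    ¬ p ∣ Nat.card ↥(center (Matrix.SpecialLinearGroup (Fin n) F)) := by
  intro hd
  have : Fact p.Prime := ⟨hp⟩
  obtain ⟨z, hz⟩ := exists_prime_orderOf_dvd_card' p hd
  apply hn
  have h1 : (z : Matrix.SpecialLinearGroup (Fin n) F) ^ n = 1 := by
    obtain ⟨r, hr, h2⟩ := Matrix.SpecialLinearGroup.mem_center_iff.1 z.2
    rw [Fintype.card_fin] at hr
    apply Subtype.ext
    change ((z : Matrix.SpecialLinearGroup (Fin n) F) : Matrix (Fin n) (Fin n) F) ^ n = 1
    rw [← h2, ← map_pow, hr, map_one]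
  rw [← hz, ← Subgroup.orderOf_coe]
  exact orderOf_dvd_of_pow_eq_one h1

/-! ### type `A₁` -/

/-- the homomorphism of a root -/
noncomputable def ph {r : ℕ} (hr : r < D.nroots) : Matrix.SpecialLinearGroup (Fin 2) F →* ↥(D.group F) :=
  (SL2Hom.phi (SL2All.good_of_mem D hD r hr) F).codRestrict (D.group F) (by
    intro g
    have h1 : (SL2Hom.phi (SL2All.good_of_mem D hD r hr) F).range ≤ D.group F := by
      rw [SL2Hom.range_phi]
      refine sup_le ?_ ?_ <;>
      · rw [rootSubgroup_eq_range hD]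
        rintro _ ⟨t, rfl⟩
        exact xG_mem_group hD _ _
    exact h1 ⟨g, rfl⟩)

theorem range_ph {r : ℕ} (hr : r < D.nroots) : (ph hD F hr).range = sub hD F [r, D.neg r] := by
  have h2 : ∀ t, ph hD F hr (SL2Hom.up t) = xe hD F r t := fun t => Subtype.ext (Units.ext
    (SL2Hom.phi_upper _ _ t rfl))
  have h3 : ∀ t, ph hD F hr (SL2Hom.lo t) = xe hD F (D.neg r) t := fun t => Subtype.ext (Units.ext
    (SL2Hom.phi_lower _ _ t rfl))
  apply le_antisymm
  · rw [MonoidHom.range_eq_map, Subgroup.map_le_iff_le_comap]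
    intro g _
    refine (Subgroup.closure_le _).2 ?_ (SL2Hom.mem_closure_SL2 g)
    rintro x (⟨t, rfl⟩ | ⟨t, rfl⟩)
    · exact Subgroup.subset_closure ⟨r, by simp, t, h2 t⟩
    · exact Subgroup.subset_closure ⟨D.neg r, by simp, t, h3 t⟩
  · refine (Subgroup.closure_le _).2 ?_
    rintro _ ⟨s, hs, t, rfl⟩
    simp only [List.mem_cons, List.not_mem_nil, or_false] at hs
    rcases hs with rfl | rfl
    · exact ⟨_, h2 t⟩
    · exact ⟨_, h3 t⟩

theorem finite_group [Finite F] : Finite ↥(D.group F) := by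
  have : Finite (GL D.Idx F) := inferInstance
  infer_instance

/-- **Factors of type `A₁`.** -/
theorem fac_one [Fintype F] {q : ℕ} (hq : Fintype.card F = q) (hq4 : 4 ≤ q) {p : ℕ} (hp : p.Prime) (h5 : 5 ≤ p)
    {r : ℕ} (hr : r < D.nroots) : Fac p (q ^ 2 - 1) (sub hD F [r, D.neg r]) := by
  have := finite_group (D := D) F
  rw [← range_ph hD F hr]
  refine fac_range hp (SignalizersComponents.SLQuasisimple.isQuasisimple_two (by
    rw [Nat.card_eq_fintype_card, hq]; exact hq4)) (not_dvd_center F hp fun h => ?_) ?_ _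
    ⟨SL2Hom.up 1, fun h => ?_⟩
  · exact absurd (Nat.le_of_dvd (by norm_num) h) (by omega)
  · rw [H953.card_SL 2 (by norm_num), hq, show Finset.Icc 2 2 = {2} from rfl, Finset.prod_singleton]
    exact Dvd.intro_left _ rfl
  · have h2 : ph hD F hr (SL2Hom.up 1) = xe hD F r 1 := Subtype.ext (Units.ext (SL2Hom.phi_upper _ _ 1 rfl))
    rw [h2] at h
    exact one_ne_zero (xe_eq_one hD F hr h)

/-! ### type `Aₙ` -/

/-- the root `e_i - e_j` of the table -/
def rt (R : List (List ℕ)) (i j : ℕ) : ℕ := (R.getD i []).getD j 0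

/-- the sign -/
def sg (σ : List (List ℤ)) (i j : ℕ) : ℤ := (σ.getD i []).getD j 1

/-- a subsystem of type `Aₙ₋₁` with signs -/
structure IsAn (D : ChevalleyDatum) (n : ℕ) (R : List (List ℕ)) (σ : List (List ℤ)) : Prop where
  lt : ∀ i j : Fin n, i ≠ j → rt R i j < D.nroots
  neg : ∀ i j : Fin n, i ≠ j → D.neg (rt R i j) = rt R j i ∧ sg σ i j = sg σ j i ∧ (sg σ i j = 1 ∨ sg σ i j = -1)
  comm : ∀ i j k l : Fin n, (i ≠ j ∧ k ≠ l ∧ j ≠ k ∧ i ≠ l) → rt R i j = rt R k l ∨
    (rt R k l ≠ rt R i j ∧ rt R k l ≠ D.neg (rt R i j) ∧ D.commTerms (rt R i j) (rt R k l) = [])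
  br : ∀ i j k : Fin n, (i ≠ j ∧ j ≠ k ∧ i ≠ k) → rt R j k ≠ rt R i j ∧
    rt R j k ≠ D.neg (rt R i j) ∧
      D.commTerms (rt R i j) (rt R j k) = [(rt R i k, sg σ i j * sg σ j k * sg σ i k, 1, 1)]

variable {n : ℕ} {R : List (List ℕ)} {σ : List (List ℤ)}

/-- the root elements of the subsystem -/
def rx (n : ℕ) (R : List (List ℕ)) (σ : List (List ℤ)) (i j : Fin n) (t : F) : ↥(D.group F) :=
  xe hD F (rt R i j) ((sg σ i j : F) * t)

theorem xe_add (r : ℕ) (t u : F) : xe hD F r t * xe hD F r u = xe hD F r (t + u) := Subtype.ext (xG_add hD r t u)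

theorem sg_sq (h : IsAn D n R σ) {i j : Fin n} (hij : i ≠ j) : ((sg σ i j : ℤ) : F) * (sg σ i j : F) = 1 := by
  rcases (h.neg i j hij).2.2 with e | e <;> rw [e] <;> norm_num

theorem rx_stein (h : IsAn D n R σ) : AGraded.SteinRel (rx hD F n R σ) := by
  have hcom : ∀ i j k l : Fin n, i ≠ j → k ≠ l → j ≠ k → i ≠ l → ∀ s t : F,
      rx hD F n R σ i j s * rx hD F n R σ k l t = rx hD F n R σ k l t * rx hD F n R σ i j s := by
    intro i j k l hij hkl hjk hil s t
    rcases h.comm i j k l ⟨hij, hkl, hjk, hil⟩ with e | ⟨h1, h2, h3⟩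
    · unfold rx
      rw [e, xe_add, xe_add, add_comm]
    · exact commute_x hD F (h.lt i j hij) (h.lt k l hkl) h1 h2 h3 _ _
  refine ⟨?_, hcom, ?_⟩
  · intro i j _ s t
    unfold rx
    rw [xe_add, mul_add]
  · intro i j k hij hjk hik s t
    obtain ⟨h1, h2, h3⟩ := h.br i j k ⟨hij, hjk, hik⟩
    have key := S1025.result (F := F) D hD _ _ (h.lt i j hij) (h.lt j k hjk) h1 h2
      ((sg σ i j : F) * s) ((sg σ j k : F) * t)
    have hz : D.wordMat F (D.commWord F (rt R i j) (rt R j k) ((sg σ i j : F) * s) ((sg σ j k : F) * t)) =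
        D.x F (rt R i k) (-((sg σ i k : F) * (s * t))) := by
      rw [ChevalleyDatum.commWord, h3]
      have e : ((sg σ i j * sg σ j k * sg σ i k : ℤ) : F) * (-((sg σ i j : F) * s)) ^ 1 * ((sg σ j k : F) * t) ^ 1 =
          -((sg σ i k : F) * (s * t)) := by
        push_cast
        linear_combination (-(sg σ i k : F) * s * t * ((sg σ j k : F) * (sg σ j k : F))) * sg_sq F h hij +
          (-(sg σ i k : F) * s * t) * sg_sq F h hjk
      simp only [List.map_cons, List.map_nil, ChevalleyDatum.wordMat]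
      rw [e]
      simp
    rw [hz] at key
    have key' : rx hD F n R σ j k t * rx hD F n R σ i j s =
        rx hD F n R σ i j s * rx hD F n R σ j k t * rx hD F n R σ i k (-(s * t)) := by
      apply Subtype.ext
      apply Units.ext
      change D.x F _ _ * D.x F _ _ = D.x F _ _ * D.x F _ _ * D.x F _ ((sg σ i k : F) * (-(s * t)))
      rw [mul_neg]
      exact key
    have hinv : ∀ u : F, rx hD F n R σ i k (-u) = (rx hD F n R σ i k u)⁻¹ := by
      intro u
      unfold rx
      apply Subtype.ext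
      change xG hD _ _ = (xG hD _ _)⁻¹
      rw [xG_inv, mul_neg]
    rw [hinv] at key'
    have c1 := hcom i j i k hij hik (Ne.symm hij) hik s (s * t)
    have c2 := hcom j k i k hjk hik (Ne.symm hik) hjk t (s * t)
    rw [commutatorElement_def]
    have e1 : rx hD F n R σ i j s * rx hD F n R σ j k t =
        rx hD F n R σ j k t * rx hD F n R σ i j s * rx hD F n R σ i k (s * t) := by
      rw [key']; group
    rw [e1, mul_assoc (rx hD F n R σ j k t), c1, ← mul_assoc, c2]
    group

theorem rx_h (h : IsAn D n R σ) : CTFrame.Torus.HRel (rx hD F n R σ) := by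
  intro i j hij s t hs ht
  have hs1 := sg_sq F h hij
  have hs0 : (sg σ i j : F) ≠ 0 := left_ne_zero_of_mul_eq_one hs1
  have hinv : ((sg σ i j : ℤ) : F)⁻¹ = (sg σ i j : F) := inv_eq_of_mul_eq_one_left hs1
  have hw : ∀ u : F, ((CTFrame.Weyl.w (rx hD F n R σ) i j u : ↥(D.group F)) : GL D.Idx F) =
      nG hD (rt R i j) ((sg σ i j : F) * u) := by
    intro u
    unfold CTFrame.Weyl.w rx
    rw [nG_def, (h.neg i j hij).1, ← (h.neg i j hij).2.1, mul_inv, hinv, mul_neg, ← mul_assoc]
    rfl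
  have ht' : ∀ u : F, ((CTFrame.Weyl.t (rx hD F n R σ) i j u : ↥(D.group F)) : GL D.Idx F) =
      nG hD (rt R i j) ((sg σ i j : F) * u) * nG hD (rt R i j) (-(sg σ i j : F)) := by
    intro u
    unfold CTFrame.Weyl.t
    rw [Subgroup.coe_mul, hw, hw, mul_neg, mul_one]
  -- `n(a u) n(- a) = h(a u) h(a)⁻¹`
  have hn1 : nG hD (rt R i j) (-1 : F) * nG hD (rt R i j) (1 : F) = 1 := by
    have h1 : hG hD (rt R i j) (1 : F) * hG hD (rt R i j) (1 : F) = hG hD (rt R i j) (1 : F) := by
      apply Units.ext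
      rw [Units.val_mul, coe_hG]
      have := S1076.result (F := F) D hD _ (h.lt i j hij) 1 1 one_ne_zero one_ne_zero
      rw [this, mul_one]
    have h2 : hG hD (rt R i j) (1 : F) = 1 := mul_eq_left.1 h1
    rw [hG_def] at h2
    exact mul_eq_one_comm.1 h2
  have hh : ∀ u : F, u ≠ 0 → ((CTFrame.Weyl.t (rx hD F n R σ) i j u : ↥(D.group F)) : GL D.Idx F) =
      hG hD (rt R i j) u := by
    intro u hu
    have hmul : ∀ a b : F, a ≠ 0 → b ≠ 0 → hG hD (rt R i j) a * hG hD (rt R i j) b = hG hD (rt R i j) (a * b) := by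
      intro a b ha hb
      apply Units.ext
      rw [Units.val_mul, coe_hG, coe_hG, coe_hG]
      exact S1076.result D hD _ (h.lt i j hij) _ _ ha hb
    have hnh : ∀ a : F, nG hD (rt R i j) a = hG hD (rt R i j) a * nG hD (rt R i j) 1 := by
      intro a
      rw [hG_def, mul_assoc, hn1, mul_one]
    rw [ht']
    rcases (h.neg i j hij).2.2 with e | e <;> rw [e]
    · rw [Int.cast_one, one_mul, hG_def]
    · rw [Int.cast_neg, Int.cast_one, neg_neg, neg_one_mul, hnh (-u), mul_assoc]
      -- `n(1)² = h(-1)⁻¹`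
      have h3 : hG hD (rt R i j) (-1 : F) * (nG hD (rt R i j) (1 : F) * nG hD (rt R i j) 1) = 1 := by
        rw [hG_def, mul_assoc, ← mul_assoc (nG hD (rt R i j) (-1 : F)) (nG hD (rt R i j) (1 : F)), hn1, one_mul, hn1]
      have h4 := hmul u (-1) hu (neg_ne_zero.2 one_ne_zero)
      rw [mul_neg, mul_one] at h4
      rw [← h4, mul_assoc, h3, mul_one]
  rw [Subtype.ext_iff, Subgroup.coe_mul, hh s hs, hh t ht, hh _ (mul_ne_zero hs ht)]
  apply Units.ext
  rw [Units.val_mul, coe_hG, coe_hG, coe_hG]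
  exact S1076.result D hD _ (h.lt i j hij) _ _ hs ht

/-- the list of roots of the table -/
def lst (n : ℕ) (R : List (List ℕ)) : List ℕ :=
  (List.range n).flatMap fun i => ((List.range n).filter fun j => !(Nat.beq i j)).map fun j => rt R i j

theorem mem_lst {r : ℕ} : r ∈ lst n R ↔ ∃ i j : Fin n, i ≠ j ∧ rt R i j = r := by
  unfold lst
  simp only [List.mem_flatMap, List.mem_range, List.mem_map, List.mem_filter]
  constructor
  · rintro ⟨i, hi, j, ⟨hj, hij⟩, rfl⟩
    refine ⟨⟨i, hi⟩, ⟨j, hj⟩, fun h => ?_, rfl⟩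
    have h1 : i = j := congrArg Fin.val h
    rw [h1, Nat.beq_refl] at hij
    exact absurd hij (by decide)
  · rintro ⟨i, j, hij, rfl⟩
    refine ⟨i, i.2, j, ⟨j.2, ?_⟩, rfl⟩
    rw [Bool.not_eq_true', ← Bool.not_eq_true]
    intro h
    exact hij (Fin.ext (Nat.eq_of_beq_eq_true h))

theorem closure_gens (h : IsAn D n R σ) :
    Subgroup.closure (AGraded.gens (rx hD F n R σ)) = sub hD F (lst n R) := by
  apply le_antisymm
  · rw [Subgroup.closure_le]
    rintro _ ⟨i, j, hij, t, rfl⟩
    exact Subgroup.subset_closure ⟨_, mem_lst.2 ⟨i, j, hij, rfl⟩, _, rfl⟩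
  · unfold sub
    rw [Subgroup.closure_le]
    rintro _ ⟨r, hr, t, rfl⟩
    obtain ⟨i, j, hij, rfl⟩ := mem_lst.1 hr
    refine Subgroup.subset_closure ⟨i, j, hij, (sg σ i j : F) * t, ?_⟩
    unfold rx
    rw [← mul_assoc, sg_sq F h hij, one_mul]

/-- **Factors of type `Aₙ₋₁`.** -/
theorem fac_an [Fintype F] {p : ℕ} (hp : p.Prime) (hn : 3 ≤ n) (hpn : ¬ p ∣ n) (h : IsAn D n R σ) {c : ℕ}
    (hc : c ∣ Nat.card (Matrix.SpecialLinearGroup (Fin n) F)) : Fac p c (sub hD F (lst n R)) := by
  have := finite_group (D := D) F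
  obtain ⟨π, h1, h2, -⟩ := CTFrame.Hom.exists_hom (rx_stein hD F h) (rx_h hD F h) (by rw [Fintype.card_fin]; exact hn)
  rw [← closure_gens hD F h, ← h2]
  refine fac_range hp (SignalizersComponents.SLQuasisimple.isQuasisimple_of_three_le (by
    rw [Fintype.card_fin]; exact hn)) (not_dvd_center F hp hpn) hc π ?_
  have h01 : (⟨0, by omega⟩ : Fin n) ≠ ⟨1, by omega⟩ := fun h => by
    have := congrArg Fin.val h
    simp at this
  refine ⟨Matrix.SpecialLinearGroup.transvection h01 1, ?_⟩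
  rw [h1]
  intro h3
  have h4 := xe_eq_one hD F (h.lt _ _ h01) h3
  rw [mul_one] at h4
  have h5 := sg_sq F h h01
  rw [h4, mul_zero] at h5
  exact zero_ne_one h5

end

end Cfsg.Agent.H122.S5
end

private theorem dce_420f151cffc9 : _root_.True := by
  try have : _root_.True := by simp only [_root_.Cfsg.Agent.H122.S5.rx.congr_simp]
  try have : _root_.True := by simp only [_root_.Cfsg.Agent.H122.S5.pairB.eq_def]
  try have : _root_.True := by simp only [_root_.Cfsg.Lie.ChevalleyDatum.commWord.eq_1]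
  exact _root_.True.intro
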